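import Cfsg.Agent.H802.FusAlp
import Cfsg.Agent.EvenType.StrongP
import Cfsg.Agent.Lib.Cores
set_option linter.all false

/-!
# Essential subgroups: radical; automorphisms extending to larger subgroups (helper744)

* `eq_bot_of_normal_of_stronglyPEmbedded` : a group with a strongly `p`-embedded subgroup has no non-trivial
  normal `p`-subgroup;
* `isRadical_of_isEssential` : essential subgroups are radical;
* `extendable_dichotomy` : the subgroup of `Aut_F(P)` generated by the extendable automorphisms.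
-/

set_option autoImplicit false

namespace Cfsg.Agent.H744

open Cfsg Cfsg.FusionSystem Cfsg.Agent.H802

/-- A group with a strongly `p`-embedded subgroup has no non-trivial normal `p`-subgroup. -/
theorem eq_bot_of_normal_of_stronglyPEmbedded {X : Type*} [Group X] [Finite X] {p : ℕ}
    [Fact p.Prime] {E : Subgroup X} (h : IsStronglyPEmbedded p E) {N : Subgroup X}
    (hN : N.Normal) (hp : IsPGroup p N) : N = ⊥ := by
  by_contra hne
  obtain ⟨h1, h2, P, hP⟩ := h
  have hsup : IsPGroup p ↥((P : Subgroup X) ⊔ N) := P.isPGroup'.to_sup_of_normal_right hp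
  have hle : N ≤ (P : Subgroup X) := by
    have := P.is_maximal' hsup le_sup_left
    rw [← this]
    exact le_sup_right
  have h3 := Cfsg.Agent.EvenType.StrongP.normalizer_le_core P.isPGroup' hle hne
  have h4 : Subgroup.normalizer (N : Set X) = ⊤ := Subgroup.normalizer_eq_top_iff.2 hN
  rw [h4] at h3
  exact h2 (top_le_iff.1 (h3.trans hP))

variable {Ω : Type*} [Group Ω] {S : Subgroup Ω}

/-- `Inn(P) ≤ Aut_S(P)` for `P ≤ S`. -/
theorem inn_le_autInducedBy {P : Subgroup Ω} (hP : P ≤ S) : Inn P ≤ autInducedBy S P := by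
  rintro _ ⟨u, rfl⟩
  rw [mem_autInducedBy_iff]
  exact ⟨u, hP u.2, fun x => rfl⟩

theorem inn_le_autGroup (F : FusionSystem S) {P : Subgroup Ω} (hP : P ≤ S) :
    Inn P ≤ F.autGroup P :=
  (inn_le_autInducedBy hP).trans (autInducedBy_le_autGroup F hP)

theorem inn_normal (F : FusionSystem S) (P : Subgroup Ω) :
    ((Inn P).subgroupOf (F.autGroup P)).Normal := by
  have h : (Inn P).Normal := by
    refine ⟨?_⟩
    rintro _ ⟨u, rfl⟩ a
    exact ⟨a u, by
      apply MulEquiv.ext
      intro x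
      show a u * x * (a u)⁻¹ = a (u * (a⁻¹ x) * u⁻¹)
      rw [map_mul, map_mul, map_inv]
      have : a (a⁻¹ x) = x := a.apply_symm_apply x
      rw [this]⟩
  infer_instance

theorem isPGroup_inn {p : ℕ} {P : Subgroup Ω} (hP : IsPGroup p P) : IsPGroup p (Inn P) :=
  hP.of_surjective (MulAut.conj : P →* MulAut P).rangeRestrict
    (MulAut.conj : P →* MulAut P).rangeRestrict_surjective

/-- Essential subgroups are radical. -/
theorem isRadical_of_isEssential {p : ℕ} [Fact p.Prime] [Finite S] (hS : IsPGroup p S)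
    {F : FusionSystem S} {P : Subgroup Ω} (hP : F.IsEssential p P) : F.IsRadical p P := by
  obtain ⟨hc, hn, hnorm, E, hE⟩ := hP
  have hPS : P ≤ S := hc.1
  have hfinP : Finite P := finite_of_le hPS
  refine ⟨hPS, ?_⟩
  have hle := inn_le_autGroup F hPS
  have hPp : IsPGroup p P := hS.to_le hPS
  have hIp : IsPGroup p ↥((Inn P).subgroupOf (F.autGroup P)) :=
    (isPGroup_inn hPp).comap_of_injective _ (Subgroup.subtype_injective _)
  have key : pCore p (F.autGroup P) = (Inn P).subgroupOf (F.autGroup P) := by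
    apply le_antisymm
    · have hmap : (pCore p (F.autGroup P)).map
          (QuotientGroup.mk' ((Inn P).subgroupOf (F.autGroup P))) = ⊥ := by
        refine eq_bot_of_normal_of_stronglyPEmbedded hE ?_
          ((Cfsg.Agent.Lib.Cores.pCore_isPGroup p).map _)
        exact (Cfsg.Agent.Lib.Cores.pCore_normal p).map _
          (QuotientGroup.mk'_surjective _)
      rw [Subgroup.map_eq_bot_iff, QuotientGroup.ker_mk'] at hmap
      exact hmap
    · exact Cfsg.Agent.Lib.Cores.le_pCore hnorm hIp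
  rw [key, Subgroup.subgroupOf_map_subtype, inf_eq_left.2 hle]

/-! ### Extendable automorphisms -/

/-- `α` extends to a map of the system on a larger subgroup. -/
def Extends (F : FusionSystem S) (P : Subgroup Ω) (α : MulAut P) : Prop :=
  ∃ (Q : Subgroup Ω) (hPQ : P < Q) (φ : Q →* Ω), φ ∈ F.Hom Q ∧
    ∀ x : P, φ (Subgroup.inclusion hPQ.le x) = α x

theorem Extends.mem {F : FusionSystem S} {P : Subgroup Ω} {α : MulAut P}
    (h : Extends F P α) : α ∈ F.autGroup P := by
  obtain ⟨Q, hPQ, φ, hφ, he⟩ := h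
  rw [mem_autGroup_iff F (hPQ.le.trans (hom_le hφ))]
  exact mem_of_agree hφ hPQ.le (fun x hx => (he ⟨x, hx⟩).symm)

/-- An inner automorphism (and more generally one induced by `S`) extends when `P < S`. -/
theorem extends_of_inn (F : FusionSystem S) {P : Subgroup Ω} (hPS : P < S) {α : MulAut P}
    (h : α ∈ Inn P) : Extends F P α := by
  obtain ⟨u, rfl⟩ := h
  exact ⟨S, hPS, conjHom S u, F.conj_mem le_rfl (hPS.le u.2), fun x => rfl⟩

/-- If `P` is receptive and the extender of `α` contains an element outside `P`, then `α` extends. -/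
theorem extends_of_mem_extender {F : FusionSystem S} {P : Subgroup Ω} [Finite S]
    (hP : F.IsReceptive P) {α : MulAut P} (hα : α ∈ F.autGroup P) {g : Ω}
    (hg : g ∈ extender S P (P.subtype.comp α.toMonoidHom)) (hgP : g ∉ P) : Extends F P α := by
  have hα' := (mem_autGroup_iff F hP.1 α).1 hα
  have hfin : Finite P := finite_of_le hP.1
  have hr : (P.subtype.comp α.toMonoidHom).range = P :=
    range_eq_of_mapsTo hα' (fun x => (α x).2)
  obtain ⟨ψ, hψ, he⟩ := hP.2 P _ hα' hr
  have hle := le_extender hP.1 (hom_apply_mem hα')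
  refine ⟨_, lt_of_le_of_ne hle (fun h => hgP (h ▸ hg)), ψ, hψ, fun x => ?_⟩
  exact he x x.2 _

/-- An extendable automorphism carries some non-inner element of `Aut_S(P)` to an element of
`Aut_S(P)`. -/
theorem Extends.exists_conj {p : ℕ} [Fact p.Prime] [Finite S] (hS : IsPGroup p S)
    {F : FusionSystem S} {P : Subgroup Ω} {α : MulAut P} (h : Extends F P α) :
    ∃ g ∈ S, g ∉ P ∧ ∃ τ : MulAut P, (∀ x : P, ((τ x : P) : Ω) = g * (x : Ω) * g⁻¹) ∧
      α * τ * α⁻¹ ∈ autInducedBy S P := by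
  obtain ⟨Q, hPQ, φ, hφ, he⟩ := h
  have hQS : Q ≤ S := hom_le hφ
  have hfinQ : Finite Q := finite_of_le hQS
  have hcard := card_lt_card_normalizerIn (hS.to_le hQS) hPQ.le hPQ.ne
  obtain ⟨g, hg, hgP⟩ : ∃ g ∈ normalizerIn Q P, g ∉ P := by
    by_contra hno
    push Not at hno
    have hle : normalizerIn Q P ≤ P := hno
    have hfinP : Finite P := finite_of_le (hPQ.le.trans hQS)
    exact absurd (Subgroup.card_le_of_le hle) (not_le.2 hcard)
  obtain ⟨τ, hτ⟩ := exists_conjAut hg.2
  refine ⟨g, hQS hg.1, hgP, τ, hτ, ?_⟩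
  rw [mem_autInducedBy_iff]
  refine ⟨φ ⟨g, hg.1⟩, hom_apply_mem hφ _, fun x => ?_⟩
  have h1 : ((α (τ (α⁻¹ x)) : P) : Ω) = φ (Subgroup.inclusion hPQ.le (τ (α⁻¹ x))) := (he _).symm
  have h2 : (Subgroup.inclusion hPQ.le (τ (α⁻¹ x)) : Q) =
      ⟨g, hg.1⟩ * Subgroup.inclusion hPQ.le (α⁻¹ x) * ⟨g, hg.1⟩⁻¹ := Subtype.ext (hτ _)
  have h3 : φ (Subgroup.inclusion hPQ.le (α⁻¹ x)) = x := by
    rw [he]
    have : α (α⁻¹ x) = x := α.apply_symm_apply x
    rw [this]
  show ((α (τ (α⁻¹ x)) : P) : Ω) = _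
  rw [h1, h2, map_mul, map_mul, map_inv, h3]

section Dichotomy

variable {p : ℕ} [Fact p.Prime] [Finite S]

omit [Finite S] in
/-- In a centric subgroup, an inner automorphism induced by `g ∈ S` has `g ∈ P`. -/
theorem mem_of_inn {F : FusionSystem S} {P : Subgroup Ω} (hc : F.IsCentric P) {g : Ω} (hg : g ∈ S)
    {τ : MulAut P} (hτ : ∀ x : P, ((τ x : P) : Ω) = g * (x : Ω) * g⁻¹) (h : τ ∈ Inn P) :
    g ∈ P := by
  obtain ⟨u, rfl⟩ := h
  have hC := hc.2 P (isConj_refl F hc.1)
  have h1 : (u : Ω)⁻¹ * g ∈ centralizerIn S P := by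
    refine ⟨S.mul_mem (S.inv_mem (hc.1 u.2)) hg, ?_⟩
    refine Subgroup.mem_centralizer_iff.2 fun x hx => ?_
    have h2 : (u : Ω) * x * (u : Ω)⁻¹ = g * x * g⁻¹ := hτ ⟨x, hx⟩
    calc x * ((u : Ω)⁻¹ * g) = (u : Ω)⁻¹ * ((u : Ω) * x * (u : Ω)⁻¹) * g := by group
      _ = (u : Ω)⁻¹ * (g * x * g⁻¹) * g := by rw [h2]
      _ = (u : Ω)⁻¹ * g * x := by group
  have h3 := P.mul_mem u.2 (hC h1)
  simpa using h3

theorem extendable_centric (hS : IsPGroup p S) {F : FusionSystem S} (hF : F.IsSaturated p)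
    {P : Subgroup Ω} (hPS : P < S) (hPn : F.IsFullyNormalized P) (hc : F.IsCentric P)
    (hnorm : ((Inn P).subgroupOf (F.autGroup P)).Normal)
    (H : Subgroup (MulAut P)) (hH : H = Subgroup.closure {α : MulAut P | Extends F P α}) :
    (H ≠ F.autGroup P → IsStronglyPEmbedded p ((H.subgroupOf (F.autGroup P)).map
      (QuotientGroup.mk' ((Inn P).subgroupOf (F.autGroup P))))) ∧
    ((∃ E : Subgroup (F.autGroup P ⧸ (Inn P).subgroupOf (F.autGroup P)),
      IsStronglyPEmbedded p E) → H ≠ F.autGroup P) := by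
  have hPr : F.IsReceptive P := isReceptive_of_isFullyNormalized hS hF hPn
  obtain ⟨-, R, hR⟩ := isFullyAutomized_of_isFullyNormalized hS hF hPn
  have hfinP : Finite P := finite_of_le hPS.le
  have hIle := inn_le_autGroup F hPS.le
  have hHA : H ≤ F.autGroup P := by
    rw [hH, Subgroup.closure_le]
    exact fun α hα => Extends.mem hα
  have hIH : Inn P ≤ H := by
    rw [hH]
    exact fun α hα => Subgroup.subset_closure (extends_of_inn F hPS hα)
  set I := (Inn P).subgroupOf (F.autGroup P) with hI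
  set π := QuotientGroup.mk' I with hπ
  have hπs : Function.Surjective π := QuotientGroup.mk'_surjective I
  -- the Sylow subgroup `T` of the quotient
  let T : Sylow p (F.autGroup P ⧸ I) := R.mapSurjective hπs
  have hT : (T : Subgroup (F.autGroup P ⧸ I)) = (R : Subgroup (F.autGroup P)).map π := rfl
  have hRmem : ∀ a : F.autGroup P, a ∈ (R : Subgroup (F.autGroup P)) ↔
      (a : MulAut P) ∈ autInducedBy S P := by
    intro a
    rw [hR, Subgroup.mem_subgroupOf]
  have hIR : I ≤ (R : Subgroup (F.autGroup P)) := by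
    intro a ha
    rw [hRmem]
    exact inn_le_autInducedBy hPS.le ha
  -- membership in `T`
  have hTmem : ∀ a : F.autGroup P, π a ∈ (T : Subgroup (F.autGroup P ⧸ I)) ↔
      (a : MulAut P) ∈ autInducedBy S P := by
    intro a
    rw [← hRmem, hT]
    constructor
    · rintro ⟨b, hb, hab⟩
      have h1 : b⁻¹ * a ∈ I := QuotientGroup.eq.1 hab
      have h2 := (R : Subgroup (F.autGroup P)).mul_mem hb (hIR h1)
      simpa using h2
    · intro ha
      exact ⟨a, ha, rfl⟩
  have hπ1 : ∀ a : F.autGroup P, π a = 1 ↔ (a : MulAut P) ∈ Inn P := by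
    intro a
    have : π a = 1 ↔ a ∈ I := QuotientGroup.eq_one_iff a
    rw [this, hI, Subgroup.mem_subgroupOf]
  -- `T` is non-trivial
  have hTne : (T : Subgroup (F.autGroup P ⧸ I)) ≠ ⊥ := by
    intro hbot
    have hcard := card_lt_card_normalizerIn hS hPS.le hPS.ne
    obtain ⟨g, hg, hgP⟩ : ∃ g ∈ normalizerIn S P, g ∉ P := by
      by_contra hno
      push Not at hno
      have hle : normalizerIn S P ≤ P := hno
      exact absurd (Subgroup.card_le_of_le hle) (not_le.2 hcard)
    obtain ⟨τ, hτ⟩ := exists_conjAut hg.2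
    have hτm : τ ∈ autInducedBy S P := (mem_autInducedBy_iff S P τ).2 ⟨g, hg.1, hτ⟩
    have h1 := (hTmem ⟨τ, autInducedBy_le_autGroup F hPS.le hτm⟩).2 hτm
    rw [hbot, Subgroup.mem_bot, hπ1] at h1
    exact hgP (mem_of_inn hc hg.1 hτ h1)
  have hpT : p ∣ Nat.card (F.autGroup P ⧸ I) := by
    have hnt : Nontrivial (T : Subgroup (F.autGroup P ⧸ I)) :=
      (Subgroup.nontrivial_iff_ne_bot _).2 hTne
    obtain ⟨n, hn⟩ := IsPGroup.iff_card.1 T.isPGroup'
    have h2 : 1 < Nat.card (T : Subgroup (F.autGroup P ⧸ I)) := Finite.one_lt_card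
    refine dvd_trans ?_ (Subgroup.card_subgroup_dvd_card (T : Subgroup (F.autGroup P ⧸ I)))
    rw [hn] at h2 ⊢
    cases n with
    | zero => simp at h2
    | succ n => exact Dvd.intro_left _ rfl
  refine ⟨fun hne => ?_, ?_⟩
  · refine ⟨hpT, fun htop => hne (le_antisymm hHA fun a ha => ?_), T, ?_⟩
    · -- the image of `H` is everything
      have h1 : π ⟨a, ha⟩ ∈ (H.subgroupOf (F.autGroup P)).map π := by
        rw [htop]
        exact Subgroup.mem_top _
      obtain ⟨b, hb, hab⟩ := h1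
      have h2 : b⁻¹ * ⟨a, ha⟩ ∈ I := QuotientGroup.eq.1 hab
      have h3 : (b : MulAut P)⁻¹ * a ∈ H := hIH h2
      have h4 := H.mul_mem hb h3
      simpa using h4
    · refine Cfsg.Agent.EvenType.StrongP.core_le T.isPGroup' fun Q hQT hQne => ?_
      intro x hx
      obtain ⟨a, rfl⟩ := hπs x
      obtain ⟨⟨q, hqQ⟩, hq⟩ := Subgroup.ne_bot_iff_exists_ne_one.1 hQne
      have hq1 : q ≠ 1 := fun h => hq (Subtype.ext h)
      obtain ⟨t, rfl⟩ := hπs q
      have ht := (hTmem t).1 (hQT hqQ)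
      have h1 : π a * π t * (π a)⁻¹ ∈ Q := (Subgroup.mem_normalizer_iff.1 hx _).1 hqQ
      rw [← map_inv, ← map_mul, ← map_mul] at h1
      have h2 := (hTmem _).1 (hQT h1)
      obtain ⟨g, hg, hge⟩ := (mem_autInducedBy_iff S P _).1 ht
      obtain ⟨k, hk, hke⟩ := (mem_autInducedBy_iff S P _).1 h2
      have hgP : g ∉ P := by
        intro hgP
        apply hq1
        rw [hπ1]
        refine ⟨⟨g, hgP⟩, ?_⟩
        apply MulEquiv.ext
        intro x
        apply Subtype.ext
        exact (hge x).symm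
      have hext : Extends F P (a : MulAut P) := by
        refine extends_of_mem_extender hPr a.2 (g := g) ?_ hgP
        rw [mem_extender_iff]
        refine ⟨hg, mem_normalizer_of_aut hge, k, hk, fun x hx => ?_⟩
        have h3 : (⟨g * (x : Ω) * g⁻¹, hx⟩ : P) = (t : MulAut P) x := Subtype.ext (hge x).symm
        show (((a : MulAut P) ⟨g * (x : Ω) * g⁻¹, hx⟩ : P) : Ω) =
          k * (((a : MulAut P) x : P) : Ω) * k⁻¹
        rw [h3, ← hke]
        congr 1
        show (a : MulAut P) ((t : MulAut P) x) =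
          (a : MulAut P) ((t : MulAut P) ((a : MulAut P)⁻¹ ((a : MulAut P) x)))
        have h4 : (a : MulAut P)⁻¹ ((a : MulAut P) x) = x := MulEquiv.symm_apply_apply _ x
        rw [h4]
      refine ⟨a, ?_, rfl⟩
      show (a : MulAut P) ∈ H
      rw [hH]
      exact Subgroup.subset_closure hext
  · rintro ⟨E, hE⟩ heq
    -- conjugate `E` so that it contains `T`
    obtain ⟨h1, h2, P₀, hP₀⟩ := hE
    obtain ⟨x, hx⟩ := MulAction.exists_smul_eq (F.autGroup P ⧸ I) P₀ T
    have hE' : Cfsg.Agent.EvenType.StrongP.NormIn p E :=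
      Cfsg.Agent.EvenType.StrongP.normIn_of_core h1 hP₀
    have hE'' := hE'.conj x
    have hTE : (T : Subgroup (F.autGroup P ⧸ I)) ≤ E.map (MulAut.conj x).toMonoidHom := by
      rw [← hx, Sylow.coe_subgroup_smul]
      rintro _ ⟨y, hy, rfl⟩
      exact ⟨y, Cfsg.Agent.EvenType.StrongP.sylow_le h1 hP₀ hy, rfl⟩
    have hEne : E.map (MulAut.conj x).toMonoidHom ≠ ⊤ := by
      intro htop
      apply h2
      rw [eq_top_iff]
      intro y _
      have : x * y * x⁻¹ ∈ E.map (MulAut.conj x).toMonoidHom := by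
        rw [htop]
        exact Subgroup.mem_top _
      rw [Cfsg.Agent.EvenType.StrongP.mem_map_conj] at this
      have e : x⁻¹ * (x * y * x⁻¹) * x = y := by group
      rwa [e] at this
    set E' := E.map (MulAut.conj x).toMonoidHom with hE'def
    apply hEne
    rw [eq_top_iff]
    intro y _
    obtain ⟨a, rfl⟩ := hπs y
    -- all generators of `H` are mapped into `E'`
    have hHle : H ≤ (E'.comap π).map (F.autGroup P).subtype := by
      rw [hH, Subgroup.closure_le]
      intro α hα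
      have hαA := Extends.mem hα
      refine ⟨⟨α, hαA⟩, ?_, rfl⟩
      show π ⟨α, hαA⟩ ∈ E'
      by_contra hnot
      apply hE''.inter hnot
      obtain ⟨g, hg, hgP, τ, hτ, hατ⟩ := Extends.exists_conj hS hα
      have hτm : τ ∈ autInducedBy S P := (mem_autInducedBy_iff S P τ).2 ⟨g, hg, hτ⟩
      have hτA := autInducedBy_le_autGroup F hPS.le hτm
      have h5 : π ⟨τ, hτA⟩ ∈ E' := hTE ((hTmem _).2 hτm)
      have h6 : π (⟨α, hαA⟩ * ⟨τ, hτA⟩ * ⟨α, hαA⟩⁻¹) ∈ E' := hTE ((hTmem _).2 hατ)
      have h7 : π (⟨α, hαA⟩ * ⟨τ, hτA⟩ * ⟨α, hαA⟩⁻¹) ∈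
          E' ⊓ E'.map (MulAut.conj (π ⟨α, hαA⟩)).toMonoidHom := by
        refine ⟨h6, ⟨π ⟨τ, hτA⟩, h5, ?_⟩⟩
        rw [map_mul, map_mul, map_inv]
        rfl
      have h8 : π (⟨α, hαA⟩ * ⟨τ, hτA⟩ * ⟨α, hαA⟩⁻¹) ≠ 1 := by
        intro h9
        rw [map_mul, map_mul, map_inv, conj_eq_one_iff, hπ1] at h9
        exact hgP (mem_of_inn hc hg hτ h9)
      set z := π (⟨α, hαA⟩ * ⟨τ, hτA⟩ * ⟨α, hαA⟩⁻¹) with hz
      have hzT : z ∈ (T : Subgroup (F.autGroup P ⧸ I)) := (hTmem _).2 hατ
      have hzp : IsPGroup p (Subgroup.zpowers z) :=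
        T.isPGroup'.to_le (by rwa [Subgroup.zpowers_le])
      have hzne : Subgroup.zpowers z ≠ ⊥ := by
        rw [Ne, Subgroup.zpowers_eq_bot]
        exact h8
      have hnt : Nontrivial (Subgroup.zpowers z) := (Subgroup.nontrivial_iff_ne_bot _).2 hzne
      have hzle : Subgroup.zpowers z ≤ E' ⊓ E'.map (MulAut.conj (π ⟨α, hαA⟩)).toMonoidHom := by
        rwa [Subgroup.zpowers_le]
      refine dvd_trans ?_ (Subgroup.card_dvd_of_le hzle)
      obtain ⟨n, hn⟩ := IsPGroup.iff_card.1 hzp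
      have h2 : 1 < Nat.card (Subgroup.zpowers z) := Finite.one_lt_card
      rw [hn] at h2 ⊢
      cases n with
      | zero => simp at h2
      | succ n => exact Dvd.intro_left _ rfl
    have hα : (a : MulAut P) ∈ H := by
      rw [heq]
      exact a.2
    obtain ⟨b, hb, hba⟩ := hHle hα
    have : b = a := Subtype.ext hba
    rw [← this]
    exact hb

/-- The dichotomy for the subgroup generated by the extendable automorphisms. -/
theorem extendable_dichotomy (hS : IsPGroup p S) {F : FusionSystem S} (hF : F.IsSaturated p)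
    {P : Subgroup Ω} (hPS : P < S) (hPn : F.IsFullyNormalized P)
    (H : Subgroup (MulAut P)) (hH : H = Subgroup.closure {α : MulAut P | Extends F P α}) :
    (¬ F.IsEssential p P ∧ H = F.autGroup P) ∨
    (F.IsEssential p P ∧ ∃ _ : ((Inn P).subgroupOf (F.autGroup P)).Normal,
      IsStronglyPEmbedded p ((H.subgroupOf (F.autGroup P)).map
        (QuotientGroup.mk' ((Inn P).subgroupOf (F.autGroup P))))) := by
  by_cases hc : F.IsCentric P
  · have hnorm := inn_normal F P
    obtain ⟨h1, h2⟩ := extendable_centric hS hF hPS hPn hc hnorm H hH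
    by_cases hE : F.IsEssential p P
    · have hE1 : ∃ E : Subgroup (F.autGroup P ⧸ (Inn P).subgroupOf (F.autGroup P)),
          IsStronglyPEmbedded p E := by
        obtain ⟨_, _, _, E, hE'⟩ := hE
        exact ⟨E, hE'⟩
      exact Or.inr ⟨hE, hnorm, h1 (h2 hE1)⟩
    · refine Or.inl ⟨hE, ?_⟩
      by_contra hne
      exact hE ⟨hc, hPn, hnorm, _, h1 hne⟩
  · refine Or.inl ⟨fun h => hc h.1, ?_⟩
    apply le_antisymm
    · rw [hH, Subgroup.closure_le]
      exact fun α hα => Extends.mem hα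
    · intro α hα
      rw [hH]
      apply Subgroup.subset_closure
      obtain ⟨R, hPR, hcard, ψ, hψ, he⟩ := exists_extension_of_not_centric
        (isReceptive_of_isFullyNormalized hS hF hPn) hc hα
      refine ⟨R, lt_of_le_of_ne hPR (fun h => ?_), ψ, hψ, fun x => he x x.2 _⟩
      rw [h] at hcard
      exact lt_irrefl _ hcard

end Dichotomy

end Cfsg.Agent.H744
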