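import Cfsg.Agent.H764.Rel
import Cfsg.Agent.H764.Center2
set_option linter.all false

/-!
# Commutator calculus in an extraspecial subgroup of index `p` (for S5177, tasks 52, 53)
-/

set_option autoImplicit false

namespace Cfsg.Agent.H744.Form

open Cfsg.Agent.H764

variable {Ω : Type*} [Group Ω]

/-- the commutator `q r q⁻¹ r⁻¹` -/
def cm (q r : Ω) : Ω := q * r * q⁻¹ * r⁻¹

theorem cm_self (q : Ω) : cm q q = 1 := by unfold cm; group

theorem cm_eq_one {q r : Ω} : cm q r = 1 ↔ q * r = r * q := by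
  unfold cm
  constructor
  · intro h
    calc q * r = (q * r * q⁻¹ * r⁻¹) * (r * q) := by group
      _ = r * q := by rw [h, one_mul]
  · intro h
    rw [h]; group

theorem cm_inv_swap (q r : Ω) : cm r q = (cm q r)⁻¹ := by unfold cm; group

theorem conj_eq (q r : Ω) : q * r * q⁻¹ = cm q r * r := by unfold cm; group

section Q

variable {p : ℕ} [hp : Fact p.Prime] {S Q : Subgroup Ω}

theorem cm_mem (h : Ext p S Q) {q r : Ω} (hq : q ∈ Q) (hr : r ∈ Q) : cm q r ∈ ZQ Q := h.comm_mem hq hr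

theorem Z_cm {w q : Ω} (hw : w ∈ ZQ Q) (hq : q ∈ Q) : q * w = w * q := (mem_ZQ.1 hw).2 q hq

theorem cm_Z_left {w q : Ω} (hw : w ∈ ZQ Q) (hq : q ∈ Q) : cm w q = 1 := cm_eq_one.2 (Z_cm hw hq).symm

theorem cm_Z_right {w q : Ω} (hw : w ∈ ZQ Q) (hq : q ∈ Q) : cm q w = 1 := cm_eq_one.2 (Z_cm hw hq)

theorem cm_mul_left (h : Ext p S Q) {q q' r : Ω} (hq : q ∈ Q) (hq' : q' ∈ Q) (hr : r ∈ Q) :
    cm (q * q') r = cm q r * cm q' r := by
  have h1 := Z_cm (cm_mem h hq' hr) (Q.mul_mem (Q.mul_mem hq hr) (Q.inv_mem hq))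
  calc cm (q * q') r = q * (cm q' r) * (r * q⁻¹ * r⁻¹) := by unfold cm; group
    _ = (cm q' r) * q * (r * q⁻¹ * r⁻¹) := by rw [Z_cm (cm_mem h hq' hr) hq]
    _ = cm q' r * cm q r := by unfold cm; group
    _ = cm q r * cm q' r := by rw [Z_cm (cm_mem h hq' hr) (ZQ_le Q (cm_mem h hq hr))]

theorem cm_mul_right (h : Ext p S Q) {q r r' : Ω} (hq : q ∈ Q) (hr : r ∈ Q) (hr' : r' ∈ Q) :
    cm q (r * r') = cm q r * cm q r' := by
  have h1 := cm_mul_left h hr hr' hq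
  have h2 : cm q (r * r') = (cm (r * r') q)⁻¹ := cm_inv_swap _ _
  rw [h2, h1, mul_inv_rev, ← cm_inv_swap r' q, ← cm_inv_swap r q]
  exact Z_cm (cm_mem h hq hr) (ZQ_le Q (cm_mem h hq hr'))

theorem cm_one_left (q : Ω) : cm 1 q = 1 := by unfold cm; group

theorem cm_one_right (q : Ω) : cm q 1 = 1 := by unfold cm; group

theorem cm_inv_left (h : Ext p S Q) {q r : Ω} (hq : q ∈ Q) (hr : r ∈ Q) : cm q⁻¹ r = (cm q r)⁻¹ := by
  have h1 := cm_mul_left h (Q.inv_mem hq) hq hr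
  rw [inv_mul_cancel, cm_one_left] at h1
  exact eq_inv_of_mul_eq_one_left h1.symm

theorem cm_pow_left (h : Ext p S Q) {q r : Ω} (hq : q ∈ Q) (hr : r ∈ Q) (n : ℕ) : cm (q ^ n) r = cm q r ^ n := by
  induction n with
  | zero => rw [pow_zero, pow_zero, cm_one_left]
  | succ n ih => rw [pow_succ, pow_succ, cm_mul_left h (Q.pow_mem hq n) hq hr, ih]

theorem cm_zpow_left (h : Ext p S Q) {q r : Ω} (hq : q ∈ Q) (hr : r ∈ Q) (n : ℤ) :
    cm (q ^ n) r = cm q r ^ n := by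
  cases n with
  | ofNat n => simpa using cm_pow_left h hq hr n
  | negSucc n =>
    rw [zpow_negSucc, zpow_negSucc, cm_inv_left h (Q.pow_mem hq _) hr, cm_pow_left h hq hr]

theorem cm_zpow_right (h : Ext p S Q) {q r : Ω} (hq : q ∈ Q) (hr : r ∈ Q) (n : ℤ) :
    cm q (r ^ n) = cm q r ^ n := by
  rw [cm_inv_swap (r ^ n) q, cm_zpow_left h hr hq, cm_inv_swap r q, inv_zpow]

/-- if `H < K ≤ S` are `p`-groups, then `p |H| ≤ |K|`. -/
theorem card_step [Finite S] (h : Ext p S Q) {H K : Subgroup Ω} (hHK : H < K) (hK : K ≤ S) :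
    p * Nat.card H ≤ Nat.card K := by
  have hfin : Finite K := Finite.of_injective (Subgroup.inclusion hK) (Subgroup.inclusion_injective hK)
  have h1 : Nat.card H * H.relIndex K = Nat.card K := by
    have h0 := (H.subgroupOf K).card_mul_index
    rw [Nat.card_congr (Subgroup.subgroupOfEquivOfLe hHK.le).toEquiv] at h0
    exact h0
  have hKp : IsPGroup p K := h.pg.to_le hK
  obtain ⟨n, hn⟩ := hKp.exists_card_eq
  have h2 : H.relIndex K ∣ p ^ n := by rw [← hn, ← h1]; exact dvd_mul_left _ _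
  obtain ⟨m, -, hm⟩ := (Nat.dvd_prime_pow hp.out).1 h2
  have hm0 : m ≠ 0 := by
    rintro rfl
    rw [pow_zero] at hm
    exact hHK.not_ge (Subgroup.relIndex_eq_one.1 hm)
  have h3 : p ≤ H.relIndex K := by
    rw [hm]
    calc p = p ^ 1 := (pow_one p).symm
      _ ≤ p ^ m := Nat.pow_le_pow_right hp.out.pos (Nat.one_le_iff_ne_zero.2 hm0)
  calc p * Nat.card H = Nat.card H * p := mul_comm _ _
    _ ≤ Nat.card H * H.relIndex K := Nat.mul_le_mul_left _ h3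
    _ = Nat.card K := h1

/-- subgroups between `Z(Q)` and `Q` are normalized by `Q`. -/
theorem norm_of_Z_le (h : Ext p S Q) {N : Subgroup Ω} (hZ : ZQ Q ≤ N) (hN : N ≤ Q) {q n : Ω} (hq : q ∈ Q)
    (hn : n ∈ N) : q * n * q⁻¹ ∈ N := by
  rw [conj_eq]
  exact N.mul_mem (hZ (cm_mem h hq (hN hn))) hn

/-- the subgroup of the elements of `Q` moved by `x` inside `N`. -/
def Dsub (h : Ext p S Q) (x : Ω) (N : Subgroup Ω) (hZ : ZQ Q ≤ N) (hN : N ≤ Q) : Subgroup Ω where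
  carrier := {w | w ∈ Q ∧ cm x w ∈ N}
  mul_mem' := by
    rintro a b ⟨ha, ha'⟩ ⟨hb, hb'⟩
    refine ⟨Q.mul_mem ha hb, ?_⟩
    have e : cm x (a * b) = cm x a * (a * cm x b * a⁻¹) := by unfold cm; group
    rw [e]
    exact N.mul_mem ha' (norm_of_Z_le h hZ hN ha hb')
  one_mem' := ⟨Q.one_mem, by rw [cm_one_right]; exact N.one_mem⟩
  inv_mem' := by
    rintro a ⟨ha, ha'⟩
    refine ⟨Q.inv_mem ha, ?_⟩
    have e : cm x a⁻¹ = a⁻¹ * (cm x a)⁻¹ * a⁻¹⁻¹ := by unfold cm; group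
    rw [e]
    exact norm_of_Z_le h hZ hN (Q.inv_mem ha) (N.inv_mem ha')

theorem mem_Dsub (h : Ext p S Q) {x : Ω} {N : Subgroup Ω} (hZ : ZQ Q ≤ N) (hN : N ≤ Q) {w : Ω} :
    w ∈ Dsub h x N hZ hN ↔ w ∈ Q ∧ cm x w ∈ N := Iff.rfl

/-- `S` is generated by `Q` and any element outside `Q`. -/
theorem closure_eq [Finite S] (h : Ext p S Q) {x : Ω} (hx : x ∈ S) (hxQ : x ∉ Q) {T : Set Ω}
    (hT : T ⊆ S) (hxT : x ∈ Subgroup.closure T) (hQT : Q ≤ Subgroup.closure T) : Subgroup.closure T = S := by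
  refine le_antisymm ((Subgroup.closure_le S).2 hT) ?_
  intro s hs
  obtain ⟨i, hi⟩ := exists_mul_zpow_mem_of_index h.index (fun g hg q hq => h.conj_mem hg hq) h.le hx hxQ hs
  have h1 : s = (s * x ^ i) * (x ^ i)⁻¹ := by group
  rw [h1]
  exact Subgroup.mul_mem _ (hQT hi) (Subgroup.inv_mem _ (Subgroup.zpow_mem _ hxT i))

end Q

end Cfsg.Agent.H744.Form
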